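import Groth.Agent.Etbc.H226.NFDefs
import Mathlib.NumberTheory.NumberField.Completion.FinitePlace
import Mathlib.RingTheory.AdicCompletion.Topology
import Mathlib.RingTheory.LocalRing.ResidueField.Basic

/-!
# The completion of a number field at a finite place is a henselian local field

`isLF_adicCompletion`: for a number field `K` and a finite place `v`, the field `v.adicCompletion K` is the fraction
field of the henselian discrete valuation ring `v.adicCompletionIntegers K`, whose residue field is finite.
-/

set_option autoImplicit false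
universe u
open NumberField IsDedekindDomain Polynomial Filter

namespace Groth.Agent.Etbc.H222.AdicLF

open Groth.Agent.Etbc.H226.NFDefs

section

variable {A : Type*} [CommRing A] [IsDedekindDomain A] {K : Type*} [Field K] [Algebra A K] [IsFractionRing A K]
  (v : HeightOneSpectrum A)

theorem exists_unif : ∃ π : v.adicCompletionIntegers K, Valued.v (π : v.adicCompletion K) = WithZero.exp (-1 : ℤ) := by
  obtain ⟨x, hx⟩ := v.valuation_exists_uniformizer K
  have h : Valued.v ((x : K) : v.adicCompletion K) = WithZero.exp (-1 : ℤ) := by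
    rw [HeightOneSpectrum.valuedAdicCompletion_eq_valuation', hx]
  refine ⟨⟨(x : v.adicCompletion K), ?_⟩, h⟩
  rw [HeightOneSpectrum.mem_adicCompletionIntegers, h, ← WithZero.exp_zero]
  exact WithZero.exp_le_exp.2 (by norm_num)

theorem lt_one_iff (z : WithZero (Multiplicative ℤ)) : z < 1 ↔ z ≤ WithZero.exp (-1 : ℤ) := by
  rw [← WithZero.lt_mul_exp_iff_le WithZero.exp_ne_zero, ← WithZero.exp_add, neg_add_cancel, WithZero.exp_zero]

theorem mem_max_iff (y : v.adicCompletionIntegers K) :
    y ∈ IsLocalRing.maximalIdeal (v.adicCompletionIntegers K) ↔ Valued.v (y : v.adicCompletion K) < 1 := by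
  rw [IsLocalRing.mem_maximalIdeal, mem_nonunits_iff,
    HeightOneSpectrum.adicCompletionIntegers.isUnit_iff_valued_eq_one]
  exact ⟨fun h => lt_of_le_of_ne y.2 h, fun h => h.ne⟩

theorem mem_pow_iff {π : v.adicCompletionIntegers K}
    (hπ : Valued.v (π : v.adicCompletion K) = WithZero.exp (-1 : ℤ)) (n : ℕ) (x : v.adicCompletionIntegers K) :
    x ∈ (IsLocalRing.maximalIdeal (v.adicCompletionIntegers K)) ^ n ↔
      Valued.v (x : v.adicCompletion K) ≤ Valued.v ((π : v.adicCompletion K) ^ n) := by
  have hπ0 : (π : v.adicCompletion K) ≠ 0 := by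
    intro h
    rw [h, map_zero] at hπ
    exact WithZero.exp_ne_zero hπ.symm
  have key : ∀ (n : ℕ) (y : v.adicCompletionIntegers K), y ∈ Ideal.span {π ^ n} ↔
      Valued.v (y : v.adicCompletion K) ≤ Valued.v ((π : v.adicCompletion K) ^ n) := by
    intro n y
    rw [Ideal.mem_span_singleton']
    constructor
    · rintro ⟨a, rfl⟩
      have ha : Valued.v (a : v.adicCompletion K) ≤ 1 := a.2
      have : ((a * π ^ n : v.adicCompletionIntegers K) : v.adicCompletion K) = a * (π : v.adicCompletion K) ^ n := by
        push_cast
        rfl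
      rw [this, map_mul]
      exact mul_le_of_le_one_left' ha
    · intro h
      refine ⟨⟨y / π ^ n, ?_⟩, ?_⟩
      · rw [HeightOneSpectrum.mem_adicCompletionIntegers, map_div₀]
        exact div_le_one_of_le₀ h zero_le
      · apply Subtype.ext
        push_cast
        exact div_mul_cancel₀ _ (pow_ne_zero _ hπ0)
  have hmax : IsLocalRing.maximalIdeal (v.adicCompletionIntegers K) = Ideal.span {π} := by
    ext y
    rw [mem_max_iff, lt_one_iff, ← hπ]
    have := key 1 y
    rw [pow_one, pow_one] at this
    exact this.symm
  rw [hmax, Ideal.span_singleton_pow]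
  exact key n x

theorem isPrecomplete :
    IsPrecomplete (IsLocalRing.maximalIdeal (v.adicCompletionIntegers K)) (v.adicCompletionIntegers K) := by
  obtain ⟨π, hπ⟩ := exists_unif (K := K) v
  have hπ0 : (π : v.adicCompletion K) ≠ 0 := by
    intro h
    rw [h, map_zero] at hπ
    exact WithZero.exp_ne_zero hπ.symm
  refine ⟨fun f hf => ?_⟩
  have hf' : ∀ {m n : ℕ}, m ≤ n → Valued.v ((f n : v.adicCompletion K) - f m) ≤
      Valued.v ((π : v.adicCompletion K) ^ m) := by
    intro m n hmn
    have h1 := hf hmn
    rw [SModEq.sub_mem, smul_eq_mul, Ideal.mul_top, mem_pow_iff v hπ] at h1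
    have h2 : Valued.v ((f m : v.adicCompletion K) - f n) ≤ Valued.v ((π : v.adicCompletion K) ^ m) := h1
    rwa [Valuation.map_sub_swap]
  have hball : ∀ (n : ℕ) (a : v.adicCompletion K),
      IsClosed {y : v.adicCompletion K | Valued.v (y - a) ≤ Valued.v ((π : v.adicCompletion K) ^ n)} := by
    intro n a
    have h1 := Valued.isClosed_closedBall (v.adicCompletion K)
      ((Valued.v : Valuation (v.adicCompletion K) _).restrict ((π : v.adicCompletion K) ^ n))
    have h2 := h1.preimage (continuous_sub_right a)
    convert h2 using 1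
    ext y
    simp only [Set.mem_ofPred_eq, Set.mem_preimage, Valuation.restrict_le_iff]
  have hcau : CauchySeq (fun n => (f n : v.adicCompletion K)) := by
    rw [CauchySeq, Valued.cauchy_iff]
    refine ⟨inferInstance, fun γ => ?_⟩
    have hy0 : MonoidWithZeroHom.ValueGroup₀.embedding γ.1 ≠ (0 : WithZero (Multiplicative ℤ)) :=
      (_root_.map_ne_zero _).2 γ.ne_zero
    obtain ⟨N, hN⟩ := WithZero.exists_exp_neg_natCast_lt hy0
    refine ⟨(fun n => (f n : v.adicCompletion K)) '' Set.Ici N, ?_, ?_⟩
    · exact image_mem_map (Ici_mem_atTop N)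
    · rintro _ ⟨a, ha, rfl⟩ _ ⟨b, hb, rfl⟩
      rw [Valuation.restrict_lt_iff_lt_embedding]
      refine lt_of_le_of_lt ?_ hN
      have e : Valued.v ((π : v.adicCompletion K) ^ N) = WithZero.exp (-(N : ℤ)) := by
        rw [map_pow, hπ, ← WithZero.exp_nsmul]
        simp
      rw [← e]
      have h1 := hf' (Set.mem_Ici.1 ha)
      have h2 := hf' (Set.mem_Ici.1 hb)
      have h3 : (f b : v.adicCompletion K) - f a = (f b - f N) - (f a - f N) := by ring
      rw [h3]
      exact (Valuation.map_sub _ _ _).trans (max_le h2 h1)
  obtain ⟨L, hL⟩ := cauchySeq_tendsto_of_complete hcau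
  have hLn : ∀ n, Valued.v (L - (f n : v.adicCompletion K)) ≤ Valued.v ((π : v.adicCompletion K) ^ n) := by
    intro n
    refine (hball n (f n)).mem_of_tendsto hL ?_
    filter_upwards [Ici_mem_atTop n] with m hm
    exact hf' hm
  have hL1 : Valued.v L ≤ (1 : WithZero (Multiplicative ℤ)) := by
    have h1 := hLn 0
    rw [pow_zero, map_one] at h1
    have h2 : L = (L - f 0) + f 0 := by ring
    rw [h2]
    exact (Valuation.map_add _ _ _).trans (max_le h1 (f 0).2)
  refine ⟨⟨L, hL1⟩, fun n => ?_⟩
  rw [SModEq.sub_mem, smul_eq_mul, Ideal.mul_top, mem_pow_iff v hπ]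
  change Valued.v ((f n : v.adicCompletion K) - L) ≤ _
  rw [Valuation.map_sub_swap]
  exact hLn n

theorem isHausdorff :
    IsHausdorff (IsLocalRing.maximalIdeal (v.adicCompletionIntegers K)) (v.adicCompletionIntegers K) := by
  infer_instance

theorem henselian : HenselianLocalRing (v.adicCompletionIntegers K) := by
  have := isPrecomplete (K := K) v
  have := isHausdorff (K := K) v
  have : IsAdicComplete (IsLocalRing.maximalIdeal (v.adicCompletionIntegers K)) (v.adicCompletionIntegers K) := {}
  refine ⟨fun f hf a₀ h₁ h₂ => ?_⟩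
  exact HenselianRing.is_henselian (I := IsLocalRing.maximalIdeal (v.adicCompletionIntegers K)) f hf a₀ h₁
    (h₂.map _)

theorem finite_residueField (hfin : Finite (A ⧸ v.asIdeal)) :
    Finite (IsLocalRing.ResidueField (v.adicCompletionIntegers K)) := by
  let φ : A →+* IsLocalRing.ResidueField (v.adicCompletionIntegers K) :=
    (IsLocalRing.residue (v.adicCompletionIntegers K)).comp (algebraMap A (v.adicCompletionIntegers K))
  have hφ : ∀ a ∈ v.asIdeal, φ a = 0 := by
    intro a ha
    change IsLocalRing.residue _ _ = 0
    rw [IsLocalRing.residue_eq_zero_iff, mem_max_iff, HeightOneSpectrum.algebraMap_adicCompletionIntegers_apply,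
      HeightOneSpectrum.valuedAdicCompletion_eq_valuation', HeightOneSpectrum.valuation_lt_one_iff_mem]
    exact ha
  have hsurj : Function.Surjective φ := by
    intro x
    obtain ⟨x, rfl⟩ := IsLocalRing.residue_surjective x
    obtain ⟨y, hy⟩ : ∃ y : K, Valued.v ((y : v.adicCompletion K) - x) < (1 : WithZero (Multiplicative ℤ)) := by
      have h1 := HeightOneSpectrum.denseRange_algebraMap (K := K) v
      have h2 : IsOpen {y : v.adicCompletion K | Valued.v (y - (x : v.adicCompletion K)) <
          (1 : WithZero (Multiplicative ℤ))} := by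
        have h1 := Valued.isOpen_ball (v.adicCompletion K)
          ((Valued.v : Valuation (v.adicCompletion K) _).restrict 1)
        have h2 := h1.preimage (continuous_sub_right (x : v.adicCompletion K))
        convert h2 using 1
        ext y
        simp only [Set.mem_ofPred_eq, Set.mem_preimage, map_one, Valuation.restrict_lt_one_iff]
      obtain ⟨y, hy⟩ := h1.exists_mem_open h2 ⟨x, by simp⟩
      exact ⟨y, hy⟩
    have hy1 : v.valuation K y ≤ 1 := by
      rw [← HeightOneSpectrum.valuedAdicCompletion_eq_valuation']
      have h2 : (y : v.adicCompletion K) = (y - x) + x := by ring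
      rw [h2]
      exact (Valuation.map_add _ _ _).trans (max_le hy.le x.2)
    obtain ⟨a, ha⟩ := v.exists_valuation_sub_lt_of_integer hy1 1
    refine ⟨a, ?_⟩
    change IsLocalRing.residue _ _ = _
    rw [← sub_eq_zero, ← map_sub, IsLocalRing.residue_eq_zero_iff, mem_max_iff]
    change Valued.v (((algebraMap A K a : K) : v.adicCompletion K) - x) < 1
    have h3 : ((algebraMap A K a : K) : v.adicCompletion K) - x =
        ((algebraMap A K a - y : K) : v.adicCompletion K) + (y - x) := by
      have e : ((algebraMap A K a : K) : v.adicCompletion K) =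
          ((algebraMap A K a - y : K) : v.adicCompletion K) + y := by
        rw [← HeightOneSpectrum.adicCompletion.coe_add, sub_add_cancel]
      rw [e]
      ring
    rw [h3]
    refine (Valuation.map_add _ _ _).trans_lt (max_lt ?_ hy)
    rw [HeightOneSpectrum.valuedAdicCompletion_eq_valuation']
    exact ha
  let ψ : A ⧸ v.asIdeal →+* IsLocalRing.ResidueField (v.adicCompletionIntegers K) := Ideal.Quotient.lift _ φ hφ
  refine Finite.of_surjective ψ ?_
  intro x
  obtain ⟨a, rfl⟩ := hsurj x
  exact ⟨Ideal.Quotient.mk _ a, Ideal.Quotient.lift_mk _ _ _⟩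

end

theorem isLF_adicCompletion (K : Type u) [Field K] [NumberField K] (v : HeightOneSpectrum (𝓞 K)) :
    IsLF (v.adicCompletion K) := by
  refine ⟨?_, v.adicCompletionIntegers K, inferInstance, inferInstance, inferInstance, inferInstance,
    henselian v, inferInstance, finite_residueField v ?_⟩
  · exact charZero_of_injective_algebraMap (algebraMap K (v.adicCompletion K)).injective
  · exact v.asIdeal.finiteQuotientOfFreeOfNeBot v.ne_bot

end Groth.Agent.Etbc.H222.AdicLF
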